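import Cfsg.Agent.Lib.M24Stab.Basic
import Cfsg.Agent.Lib.M24Orbits.Octad
import Cfsg.Agent.Lib.Golay.Mathieu
import Mathlib.GroupTheory.SpecificGroups.Alternating

/-!
The stabiliser of an octad: the group induced on the octad, and the complement fixing an outside point.
-/

set_option autoImplicit false

namespace CfsgLib.M24Stab

open Cfsg CfsgLib MulAction M24Orbits
open scoped Pointwise

variable (o : Finset GolayPt)

/-- The stabiliser of a set of points inside the group of the code. -/
def setStab : Subgroup (Equiv.Perm GolayPt) := M24 ⊓ stabilizer (Equiv.Perm GolayPt) o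

/-- The pointwise stabiliser of a set of points inside the group of the code. -/
def ptStab : Subgroup (Equiv.Perm GolayPt) :=
  M24 ⊓ fixingSubgroup (Equiv.Perm GolayPt) (o : Set GolayPt)

variable {o}

theorem mem_setStab {g : Equiv.Perm GolayPt} : g ∈ setStab o ↔ g ∈ M24 ∧ g • o = o := by
  simp [setStab]

theorem mem_ptStab {g : Equiv.Perm GolayPt} : g ∈ ptStab o ↔ g ∈ M24 ∧ ∀ x ∈ o, g x = x := by
  simp [ptStab, mem_fixingSubgroup_iff]

theorem preserves {g : Equiv.Perm GolayPt} (hg : g ∈ setStab o) (x : GolayPt) : g x ∈ o ↔ x ∈ o := by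
  conv_lhs => rw [← (mem_setStab.1 hg).2]
  exact Finset.smul_mem_smul_finset_iff g

/-- The action of the set stabiliser on the set. -/
noncomputable def onSet (o : Finset GolayPt) : setStab o →* Equiv.Perm o where
  toFun g := g.1.subtypePerm (preserves g.2)
  map_one' := by ext x; rfl
  map_mul' g h := by ext x; rfl

theorem ker_onSet {g : setStab o} : g ∈ (onSet o).ker ↔ (g : Equiv.Perm GolayPt) ∈ ptStab o := by
  rw [MonoidHom.mem_ker, mem_ptStab]
  constructor
  · intro h
    exact ⟨(mem_setStab.1 g.2).1, fun x hx =>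
      congrArg Subtype.val (Equiv.ext_iff.1 h ⟨x, hx⟩)⟩
  · intro h
    exact Equiv.ext fun x => Subtype.ext (h.2 x x.2)

theorem ptStab_le : ptStab o ≤ setStab o := by
  intro g hg
  rw [mem_ptStab] at hg
  refine mem_setStab.2 ⟨hg.1, ?_⟩
  ext x
  rw [Finset.mem_smul_finset]
  exact ⟨fun ⟨y, hy, e⟩ => by rw [← e, Equiv.Perm.smul_def, hg.2 y hy]; exact hy,
    fun hx => ⟨x, hx, hg.2 x hx⟩⟩

theorem card_setStab (ho : o ∈ octads) : Nat.card (setStab o) = 322560 := by
  have h := card_stab_mul (a := o) (fun g y hy => smul_mem_octads g hy) ho fun y hy => by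
    obtain ⟨k, hk⟩ := octad_transitive ho
    obtain ⟨k', hk'⟩ := octad_transitive hy
    exact ⟨k' * k⁻¹, by rw [← hk, mul_smul, inv_smul_smul, hk']⟩
  rw [Golay.ncard_octads] at h
  have e : Nat.card (stabilizer M24 o) = Nat.card (setStab o) := Nat.card_congr
    { toFun := fun g => ⟨g.1.1, mem_setStab.2 ⟨g.1.2, g.2⟩⟩
      invFun := fun g => ⟨⟨g.1, (mem_setStab.1 g.2).1⟩, (mem_setStab.1 g.2).2⟩
      left_inv := fun g => rfl
      right_inv := fun g => rfl }
  omega

theorem range_onSet (ho : o ∈ octads) : (onSet o).range = alternatingGroup o := by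
  refine Equiv.Perm.eq_alternatingGroup_of_index_eq_two ?_
  have hker : Nat.card (onSet o).ker = 16 := by
    rw [← (Golay.octad_pointwise ho).1]
    exact Nat.card_congr
      { toFun := fun g => ⟨g.1.1, ker_onSet.1 g.2⟩
        invFun := fun g => ⟨⟨g.1, ptStab_le g.2⟩, ker_onSet.2 g.2⟩
        left_inv := fun g => rfl
        right_inv := fun g => rfl }
  have h1 := Subgroup.card_mul_index (onSet o).ker
  rw [Subgroup.index_ker, hker, card_setStab ho] at h1
  have h2 := Subgroup.card_mul_index (onSet o).range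
  rw [Nat.card_perm, Nat.card_eq_finsetCard, ho.2, show Nat.factorial 8 = 40320 by decide] at h2
  have h3 : Nat.card (onSet o).range = 20160 := by omega
  rw [h3] at h2
  omega

theorem induced_eq (ho : o ∈ octads) :
    {e : Equiv.Perm ↥o | ∃ g : Equiv.Perm GolayPt, g ∈ M24 ∧
      ∃ h : (∀ x, g x ∈ o ↔ x ∈ o), g.subtypePerm h = e} = (alternatingGroup ↥o : Set _) := by
  rw [← range_onSet ho]
  ext e
  constructor
  · rintro ⟨g, hg, h, rfl⟩
    refine ⟨⟨g, mem_setStab.2 ⟨hg, ?_⟩⟩, rfl⟩
    refine Finset.eq_of_subset_of_card_le (fun x hx => ?_) (by rw [Finset.card_smul_finset])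
    obtain ⟨y, hy, rfl⟩ := Finset.mem_smul_finset.1 hx
    exact (h y).2 hy
  · rintro ⟨g, rfl⟩
    exact ⟨g.1, (mem_setStab.1 g.2).1, preserves g.2, rfl⟩

/-! ### Regularity of the pointwise stabiliser outside the octad -/

/-- The elements fixing the base octad pointwise. -/
def ptCodes : List ℕ := [566073426779046459040877649791461066728553822781039575296,
    566068935590223931936399842883304279611941246064234922496,
    566071167223298265452231520490200154637180347561057518336,
    566069303814419659320505239776325560623344042399346000896,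
    566068168244774425506787927826421658837364790094156989696,
    566070411609824793049659213479286281716184718753734985216,
    566067430152193628766566845240450288410772061391562934016,
    566073054039039031945748810368516603355693398564109223936,
    566066304818768847058602667666417642231116400013719439616,
    566067041398467089525189587451781287929079221163141761536,
    566072662425108116508335853523501139455189258315269409536,
    566067795590401859993955121488615370714034156771700116736,
    566066668761221496302231768559314661304775021253984980736,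
    566069658925063586095666993832103910673077360790217167616,
    566068535036013469390183520497643400079349655146167735296,
    566065926306971750664559834363216793393480930750362096896]

theorem ptCodes_check :
    (ptCodes.all fun p => okM24 p && (List.range 24).all fun i =>
      !(octadCert.base.testBit i) || Nat.beq (Comp.PermCode.get p i) i) = true ∧
    distinctCodes [1] ptCodes = true ∧
    ((List.range 24).all fun i => octadCert.base.testBit i ||
      ptCodes.any fun p => Nat.beq (Comp.PermCode.get p 1) i) = true ∧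
    ptCodes.length = 16 ∧ octadCert.base.testBit 1 = false := by
  decide +kernel

theorem ptCodes_mem {p : ℕ} (hp : p ∈ ptCodes) :
    Comp.PermCode.Ok 24 p ∧ perm p ∈ ptStab (Golay.toSet octadCert.base) := by
  have h := List.all_eq_true.1 ptCodes_check.1 p hp
  simp only [Bool.and_eq_true, List.all_eq_true, List.mem_range, Bool.or_eq_true, Bool.not_eq_true',
    Nat.beq_eq] at h
  refine ⟨okM24_ok h.1, mem_ptStab.2 ⟨perm_mem_M24 h.1, fun x hx => Golay.bit_injective ?_⟩⟩
  rw [bit_perm (okM24_ok h.1)]
  rw [Golay.mem_toSet] at hx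
  exact (h.2 (Golay.bit x) (Golay.bit_lt x)).resolve_left (by simp [hx])

theorem base_regular :
    (∀ q, q ∉ Golay.toSet octadCert.base →
      ∃ g ∈ ptStab (Golay.toSet octadCert.base), g (Golay.pt 1) = q) ∧
    ∀ g ∈ ptStab (Golay.toSet octadCert.base), g (Golay.pt 1) = Golay.pt 1 → g = 1 := by
  obtain ⟨hok, hd, hcov, hlen, hb1⟩ := ptCodes_check
  refine ⟨fun q hq => ?_, ?_⟩
  · rw [Golay.mem_toSet, Bool.not_eq_true] at hq
    have := List.all_eq_true.1 hcov (Golay.bit q) (List.mem_range.2 (Golay.bit_lt q))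
    rw [Bool.or_eq_true, hq] at this
    obtain ⟨p, hp, e⟩ := List.any_eq_true.1 (this.resolve_left (by simp))
    refine ⟨perm p, (ptCodes_mem hp).2, Golay.bit_injective ?_⟩
    rw [bit_perm (ptCodes_mem hp).1, Golay.bit_pt (by norm_num), Nat.eq_of_beq_eq_true e]
  · intro g hg hfix
    have hnod := nodup_perm (base := [1]) (by simp) (fun p hp => (ptCodes_mem hp).1) hd
    have hcard : Nat.card (ptStab (Golay.toSet octadCert.base)) ≤ ptCodes.length := by
      rw [hlen]
      exact (Golay.octad_pointwise (mem_octads_of_isOct (by decide +kernel))).1.le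
    obtain ⟨p, hp, rfl⟩ := exists_code_of_card (fun p hp => (ptCodes_mem hp).2) hnod hcard hg
    have hbit : Comp.PermCode.get p 1 = 1 := by
      have := congrArg Golay.bit hfix
      rwa [bit_perm (ptCodes_mem hp).1, Golay.bit_pt (by norm_num)] at this
    have hone : ∀ r ∈ ptCodes, Comp.PermCode.get r 1 = 1 → ∀ i < 24, Comp.PermCode.get r i = i := by
      have hh : (ptCodes.all fun r => !(Nat.beq (Comp.PermCode.get r 1) 1) ||
          (List.range 24).all fun i => Nat.beq (Comp.PermCode.get r i) i) = true := by decide +kernel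
      intro r hr h1 i hi
      have := List.all_eq_true.1 hh r hr
      rw [Bool.or_eq_true, Bool.not_eq_true', h1] at this
      exact Nat.eq_of_beq_eq_true
        (List.all_eq_true.1 (this.resolve_left (by simp)) i (List.mem_range.2 hi))
    refine Equiv.ext fun x => Golay.bit_injective ?_
    rw [bit_perm (ptCodes_mem hp).1, hone p hp hbit _ (Golay.bit_lt x)]
    rfl

theorem regular (ho : o ∈ octads) {p : GolayPt} (hp : p ∉ o) :
    (∀ q, q ∉ o → ∃ g ∈ ptStab o, g p = q) ∧ ∀ g ∈ ptStab o, g p = p → g = 1 := by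
  obtain ⟨k, rfl⟩ := octad_transitive ho
  set a := Golay.toSet octadCert.base with ha
  have hk : (k : Equiv.Perm GolayPt) • a = k • a := rfl
  have conj : ∀ g, g ∈ ptStab a → (k : Equiv.Perm GolayPt) * g * (k : Equiv.Perm GolayPt)⁻¹ ∈ ptStab (k • a) := by
    intro g hg
    rw [mem_ptStab] at hg ⊢
    refine ⟨M24.mul_mem (M24.mul_mem k.2 hg.1) (M24.inv_mem k.2), fun x hx => ?_⟩
    obtain ⟨y, hy, e⟩ := Finset.mem_smul_finset.1 (hk ▸ hx : x ∈ (k : Equiv.Perm GolayPt) • a)
    replace e : (k : Equiv.Perm GolayPt) y = x := e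
    rw [← e]
    simp [hg.2 y hy]
  have conj' : ∀ g, g ∈ ptStab (k • a) → (k : Equiv.Perm GolayPt)⁻¹ * g * (k : Equiv.Perm GolayPt) ∈ ptStab a := by
    intro g hg
    rw [mem_ptStab] at hg ⊢
    refine ⟨M24.mul_mem (M24.mul_mem (M24.inv_mem k.2) hg.1) k.2, fun x hx => ?_⟩
    have := hg.2 ((k : Equiv.Perm GolayPt) x) (hk ▸ Finset.smul_mem_smul_finset hx)
    simp [this]
  have out : ∀ q, q ∉ k • a → ∃ g ∈ ptStab (k • a), g ((k : Equiv.Perm GolayPt) (Golay.pt 1)) = q := by
    intro q hq
    obtain ⟨g, hg, e⟩ := base_regular.1 ((k : Equiv.Perm GolayPt)⁻¹ q) (fun h => hq (by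
      have h' := Finset.smul_mem_smul_finset (a := (k : Equiv.Perm GolayPt)) h
      rw [hk] at h'
      simpa using h'))
    exact ⟨_, conj g hg, by simp [e]⟩
  obtain ⟨g₀, hg₀, hgp⟩ := out p hp
  refine ⟨fun q hq => ?_, fun g hg hfix => ?_⟩
  · obtain ⟨g₁, hg₁, e⟩ := out q hq
    exact ⟨g₁ * g₀⁻¹, mul_mem hg₁ (inv_mem hg₀), by rw [← e, ← hgp]; simp⟩
  · have h1 := mul_mem (mul_mem (inv_mem hg₀) hg) hg₀
    have h2 := base_regular.2 _ (conj' _ h1) (by
      simp only [Equiv.Perm.mul_apply]
      rw [hgp, hfix, ← hgp]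
      simp)
    have : g = g₀ * ((k : Equiv.Perm GolayPt) *
        ((k : Equiv.Perm GolayPt)⁻¹ * (g₀⁻¹ * g * g₀) * (k : Equiv.Perm GolayPt)) *
        (k : Equiv.Perm GolayPt)⁻¹) * g₀⁻¹ := by group
    rw [this, h2]
    group

theorem splits (ho : o ∈ octads) {p : GolayPt} (hp : p ∉ o) :
    ptStab o ⊓ (setStab o ⊓ stabilizer (Equiv.Perm GolayPt) p) = ⊥ ∧
    ptStab o ⊔ (setStab o ⊓ stabilizer (Equiv.Perm GolayPt) p) = setStab o ∧
    Nonempty (↥(setStab o ⊓ stabilizer (Equiv.Perm GolayPt) p) ≃* alternatingGroup (Fin 8)) := by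
  classical
  obtain ⟨htr, hfree⟩ := regular ho hp
  have hbot : ptStab o ⊓ (setStab o ⊓ stabilizer (Equiv.Perm GolayPt) p) = ⊥ := by
    rw [eq_bot_iff]
    rintro g ⟨hg, -, hgp⟩
    exact Subgroup.mem_bot.2 (hfree g hg hgp)
  have split : ∀ g ∈ setStab o, ∃ u ∈ ptStab o,
      u⁻¹ * g ∈ setStab o ⊓ stabilizer (Equiv.Perm GolayPt) p := by
    intro g hg
    obtain ⟨u, hu, e⟩ := htr (g p) (fun h => hp ((preserves hg p).1 h))
    refine ⟨u, hu, Subgroup.mem_inf.2 ⟨mul_mem (inv_mem (ptStab_le hu)) hg, ?_⟩⟩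
    rw [mem_stabilizer_iff, Equiv.Perm.smul_def, Equiv.Perm.mul_apply, ← e]
    simp
  refine ⟨hbot, le_antisymm (sup_le ptStab_le inf_le_left) (fun g hg => ?_), ?_⟩
  · obtain ⟨u, hu, h⟩ := split g hg
    have := mul_mem (Subgroup.mem_sup_left (T := setStab o ⊓ stabilizer (Equiv.Perm GolayPt) p) hu)
      (Subgroup.mem_sup_right (S := ptStab o) h)
    simpa using this
  · let L : ↥(setStab o ⊓ stabilizer (Equiv.Perm GolayPt) p) →* alternatingGroup o :=
      ((onSet o).comp (Subgroup.inclusion inf_le_left)).codRestrict _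
        (fun g => range_onSet ho ▸ ⟨_, rfl⟩)
    have hL : Function.Bijective L := by
      constructor
      · refine (injective_iff_map_eq_one L).2 fun g hg => Subtype.ext ?_
        have : (g : Equiv.Perm GolayPt) ∈ ptStab o :=
          (ker_onSet (g := Subgroup.inclusion inf_le_left g)).1 (congrArg Subtype.val hg)
        exact Subgroup.mem_bot.1 (hbot ▸ Subgroup.mem_inf.2 ⟨this, g.2⟩)
      · intro e
        have he : e.1 ∈ (onSet o).range := by rw [range_onSet ho]; exact e.2
        obtain ⟨g, hg⟩ := he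
        obtain ⟨u, hu, h⟩ := split g.1 g.2
        refine ⟨⟨_, h⟩, Subtype.ext ?_⟩
        show onSet o (⟨u, ptStab_le hu⟩⁻¹ * g) = e.1
        rw [map_mul, hg, map_inv, MonoidHom.mem_ker.1 (ker_onSet.2 hu :
          (⟨u, ptStab_le hu⟩ : setStab o) ∈ (onSet o).ker), inv_one, one_mul]
    exact ⟨(MulEquiv.ofBijective L hL).trans
      (Equiv.altCongrHom (Fintype.equivFinOfCardEq (by rw [Fintype.card_coe]; exact ho.2)))⟩

end CfsgLib.M24Stab
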