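import Cfsg.Agent.Lib.M24Orbits.Perm
import Cfsg.Agent.Lib.Golay.M24
import Mathlib.GroupTheory.GroupAction.Quotient

/-!
Orders of stabilisers of the group of the code, and groups given by complete lists of codes.
-/

set_option autoImplicit false

namespace CfsgLib.M24Stab

open Cfsg CfsgLib MulAction
open scoped Pointwise

variable {X : Type} [MulAction (Equiv.Perm GolayPt) X]

theorem card_stab_mul {Ω : Set X} {a : X} (hinv : ∀ g : M24, ∀ y ∈ Ω, g • y ∈ Ω) (ha : a ∈ Ω)
    (htr : ∀ y ∈ Ω, ∃ k : M24, k • a = y) :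
    Nat.card (stabilizer M24 a) * Ω.ncard = 244823040 := by
  have horb : orbit M24 a = Ω := Set.Subset.antisymm
    (by rintro _ ⟨g, rfl⟩; exact hinv g a ha) (fun y hy => htr y hy)
  rw [← Golay.card_M24, ← horb, ← index_stabilizer M24 a]
  exact Subgroup.card_mul_index _

/-- The codes are valid and pairwise different on the points of `base`. -/
noncomputable def distinctCodes (base : List ℕ) (l : List ℕ) : Bool :=
  (List.range l.length).all fun i => (List.range i).all fun j =>
    !(base.all fun b => Nat.beq (Comp.PermCode.get (l.getD i 0) b) (Comp.PermCode.get (l.getD j 0) b))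

theorem nodup_perm {base l : List ℕ} (hb : ∀ b ∈ base, b < 24)
    (hok : ∀ p ∈ l, Comp.PermCode.Ok 24 p) (h : distinctCodes base l = true) :
    (l.map M24Orbits.perm).Nodup := by
  rw [List.nodup_iff_pairwise_ne, List.pairwise_iff_getElem]
  intro i j hi hj hij e
  simp only [List.length_map] at hi hj
  rw [List.getElem_map, List.getElem_map] at e
  simp only [distinctCodes, List.all_eq_true, List.mem_range, Bool.not_eq_true'] at h
  have hf := h j hj i hij
  rw [Bool.eq_false_iff] at hf
  refine hf (List.all_eq_true.2 fun b hb' => ?_)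
  rw [List.getD_eq_getElem _ _ hi, List.getD_eq_getElem _ _ hj, Nat.beq_eq]
  have hbb : b = Golay.bit (Golay.pt b) := (Golay.bit_pt (hb b hb')).symm
  rw [hbb, ← M24Orbits.bit_perm (hok _ (List.getElem_mem hj)),
    ← M24Orbits.bit_perm (hok _ (List.getElem_mem hi)), e]

theorem exists_code_of_card {H : Subgroup (Equiv.Perm GolayPt)} {l : List ℕ}
    (hmem : ∀ p ∈ l, M24Orbits.perm p ∈ H) (hn : (l.map M24Orbits.perm).Nodup)
    (hcard : Nat.card H ≤ l.length) {g : Equiv.Perm GolayPt} (hg : g ∈ H) :
    ∃ p ∈ l, M24Orbits.perm p = g := by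
  classical
  have hsub : ↑((l.map M24Orbits.perm).toFinset) ⊆ (H : Set (Equiv.Perm GolayPt)) := by
    intro x hx
    simp only [List.coe_toFinset, List.mem_map, Set.mem_ofPred_eq] at hx
    obtain ⟨p, hp, rfl⟩ := hx
    exact hmem p hp
  have hle : (H : Set (Equiv.Perm GolayPt)).ncard ≤
      (↑((l.map M24Orbits.perm).toFinset) : Set (Equiv.Perm GolayPt)).ncard := by
    rw [Set.ncard_coe_finset, List.toFinset_card_of_nodup hn, List.length_map,
      ← Nat.card_coe_set_eq]
    exact hcard
  have := Set.eq_of_subset_of_ncard_le hsub hle (Set.toFinite _)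
  have hg' : g ∈ (↑((l.map M24Orbits.perm).toFinset) : Set (Equiv.Perm GolayPt)) := this ▸ hg
  simpa using hg'

end CfsgLib.M24Stab
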