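import Cfsg.Agent.Lib.M24Stab.Basic
import Cfsg.Agent.Lib.M24Stab.SextetData
import Cfsg.Agent.Lib.M24Orbits.Sextet
import Mathlib.GroupTheory.Perm.Closure
import Mathlib.GroupTheory.Perm.Fin

/-!
The stabiliser of a sextet: all permutations of the tetrads, and the normal subgroup of order 64.
-/

set_option autoImplicit false

namespace CfsgLib.M24Stab

open Cfsg CfsgLib MulAction M24Orbits
open scoped Pointwise

section Fam

variable {Y : Type} [DecidableEq Y] [MulAction (Equiv.Perm GolayPt) Y] {S : Finset Y}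

theorem smul_mem_fam (g : stabilizer M24 S) {t : Y} (ht : t ∈ S) :
    ((g : M24) : Equiv.Perm GolayPt) • t ∈ S := by
  have h : ((g : M24) : Equiv.Perm GolayPt) • S = S := g.2
  have h2 := Finset.smul_mem_smul_finset (a := ((g : M24) : Equiv.Perm GolayPt)) ht
  rwa [h] at h2

/-- The action of the stabiliser of a family on its members. -/
noncomputable def onFam (S : Finset Y) : stabilizer M24 S →* Equiv.Perm S where
  toFun g :=
    { toFun := fun t => ⟨_, smul_mem_fam g t.2⟩
      invFun := fun t => ⟨_, smul_mem_fam g⁻¹ t.2⟩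
      left_inv := fun t => Subtype.ext (inv_smul_smul ((g : M24) : Equiv.Perm GolayPt) (t : Y))
      right_inv := fun t => Subtype.ext (smul_inv_smul ((g : M24) : Equiv.Perm GolayPt) (t : Y)) }
  map_one' := Equiv.ext fun t => Subtype.ext (one_smul _ _)
  map_mul' g h := Equiv.ext fun t => Subtype.ext (mul_smul _ _ _)

theorem ker_onFam {g : stabilizer M24 S} :
    g ∈ (onFam S).ker ↔ ∀ t ∈ S, ((g : M24) : Equiv.Perm GolayPt) • t = t := by
  rw [MonoidHom.mem_ker]
  exact ⟨fun h t ht => congrArg Subtype.val (Equiv.ext_iff.1 h ⟨t, ht⟩),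
    fun h => Equiv.ext fun t => Subtype.ext (h t t.2)⟩

theorem card_fix_mul (hsurj : Function.Surjective (onFam S)) :
    Nat.card {g : stabilizer M24 S // ∀ t ∈ S, ((g : M24) : Equiv.Perm GolayPt) • t = t}
      * S.card.factorial = Nat.card (stabilizer M24 S) := by
  have h := Subgroup.card_mul_index (onFam S).ker
  rw [Subgroup.index_ker, MonoidHom.range_eq_top.2 hsurj, Subgroup.card_top, Nat.card_perm,
    Nat.card_eq_finsetCard] at h
  rw [← h]
  congr 1
  exact Nat.card_congr (Equiv.subtypeEquivRight fun g => ker_onFam.symm)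

end Fam

local notation "S₀" => famDec sextetCert.base

/-- The `i`-th tetrad of the base sextet. -/
def sextMask (i : Fin 6) : ℕ := sextetCert.base.getD i 0

theorem sextet_codes_check :
    (okM24 sextSwap && okM24 sextCyc) = true ∧
    (∀ i : Fin 6, app sextSwap (sextMask i) = sextMask (Equiv.swap 0 1 i)) ∧
    (∀ i : Fin 6, app sextCyc (sextMask i) = sextMask (finRotate 6 i)) := by
  decide +kernel

theorem sextMask_mem (i : Fin 6) : Golay.toSet (sextMask i) ∈ S₀ := by
  revert i; decide +kernel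

/-- The base sextet numbered. -/
noncomputable def sextNum : Fin 6 ≃ {t // t ∈ S₀} :=
  Equiv.ofBijective (fun i => ⟨Golay.toSet (sextMask i), sextMask_mem i⟩) (by
    have hlt : ∀ i, sextMask i < 2 ^ 24 := by decide +kernel
    have hinj : ∀ i j, sextMask i = sextMask j → i = j := by decide +kernel
    refine (Fintype.bijective_iff_injective_and_card _).2
      ⟨fun i j e => hinj i j (Golay.toSet_inj (hlt i) (hlt j) (congrArg Subtype.val e)), ?_⟩
    rw [Fintype.card_fin, Fintype.card_coe, sextetBase_mem.1])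

theorem sextNum_val (i : Fin 6) : (sextNum i : Finset GolayPt) = Golay.toSet (sextMask i) := rfl

theorem smul_base {p : ℕ} {σ : Equiv.Perm (Fin 6)} (hp : okM24 p = true)
    (h : ∀ i : Fin 6, app p (sextMask i) = sextMask (σ i)) :
    ∃ hg : elt p hp ∈ stabilizer M24 S₀, onFam S₀ ⟨elt p hp, hg⟩ = sextNum.permCongr σ := by
  have hs : ∀ t : {t // t ∈ S₀}, perm p • (t : Finset GolayPt) = (sextNum.permCongr σ t : {t // t ∈ S₀}) := by
    intro t
    obtain ⟨i, rfl⟩ := sextNum.surjective t
    rw [Equiv.permCongr_apply, Equiv.symm_apply_apply, sextNum_val, sextNum_val, ← toSet_app (okM24_ok hp), h]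
  have hg : elt p hp ∈ stabilizer M24 S₀ := by
    show perm p • S₀ = S₀
    refine Finset.eq_of_subset_of_card_le (fun x hx => ?_) (by rw [Finset.card_smul_finset])
    obtain ⟨t, ht, rfl⟩ := Finset.mem_smul_finset.1 hx
    rw [hs ⟨t, ht⟩]
    exact Subtype.prop _
  exact ⟨hg, Equiv.ext fun t => Subtype.ext (hs t)⟩

theorem surjective_base : Function.Surjective (onFam S₀) := by
  obtain ⟨hok, hs, hc⟩ := sextet_codes_check
  rw [Bool.and_eq_true] at hok
  obtain ⟨_, h1⟩ := smul_base hok.1 hs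
  obtain ⟨_, h2⟩ := smul_base hok.2 hc
  intro e
  obtain ⟨σ, rfl⟩ := sextNum.permCongrHom.surjective e
  have hσ : σ ∈ Subgroup.closure ({finRotate 6, Equiv.swap 0 (finRotate 6 0)} : Set (Equiv.Perm (Fin 6))) := by
    rw [Equiv.Perm.closure_cycle_adjacent_swap (isCycle_finRotate (n := 4)) (support_finRotate (n := 4))]
    exact Subgroup.mem_top _
  have hle : Subgroup.closure ({finRotate 6, Equiv.swap 0 (finRotate 6 0)} : Set (Equiv.Perm (Fin 6))) ≤
      (onFam S₀).range.comap sextNum.permCongrHom.toMonoidHom := by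
    rw [Subgroup.closure_le]
    rintro τ (rfl | rfl)
    · exact ⟨_, h2⟩
    · exact ⟨_, h1⟩
  exact hle hσ

theorem conj_mem_stab {S : Finset (Finset GolayPt)} {k : M24} {g : M24}
    (hg : g ∈ stabilizer M24 S) : k * g * k⁻¹ ∈ stabilizer M24 (k • S) := by
  rw [mem_stabilizer_iff, mul_smul, mul_smul, inv_smul_smul, mem_stabilizer_iff.1 hg]

theorem card_stab_sextet {S : Finset (Finset GolayPt)} (hS : S ∈ sextets) :
    Nat.card (stabilizer M24 S) = 138240 := by
  have h := card_stab_mul (fun g y hy => smul_mem_sextets g hy) hS fun y hy => by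
    obtain ⟨k, hk⟩ := sextet_transitive hS
    obtain ⟨k', hk'⟩ := sextet_transitive hy
    exact ⟨k' * k⁻¹, by rw [← hk, mul_smul, inv_smul_smul, hk']⟩
  rw [GolayDesign.ncard_sextets] at h
  omega

theorem surjective_any {S : Finset (Finset GolayPt)} (hS : S ∈ sextets) :
    Function.Surjective (onFam S) := by
  obtain ⟨k, rfl⟩ := sextet_transitive hS
  have hk : ∀ t, ((k : Equiv.Perm GolayPt)) • t ∈ (k • S₀) ↔ t ∈ S₀ := fun t =>
    Finset.smul_mem_smul_finset_iff _
  let c : {t // t ∈ S₀} ≃ {t // t ∈ k • S₀} :=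
    { toFun := fun t => ⟨(k : Equiv.Perm GolayPt) • t.1, (hk _).2 t.2⟩
      invFun := fun t => ⟨(k : Equiv.Perm GolayPt)⁻¹ • t.1, (hk _).1 (by rw [smul_inv_smul]; exact t.2)⟩
      left_inv := fun t => Subtype.ext (inv_smul_smul _ _)
      right_inv := fun t => Subtype.ext (smul_inv_smul _ _) }
  intro e
  obtain ⟨g, hg⟩ := surjective_base (c.symm.permCongr e)
  refine ⟨⟨k * g.1 * k⁻¹, conj_mem_stab g.2⟩, Equiv.ext fun t => Subtype.ext ?_⟩
  obtain ⟨u, rfl⟩ := c.surjective t
  have hu : (((g : M24) : Equiv.Perm GolayPt)) • u.1 = (c.symm (e (c u))).1 := by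
    have := congrArg Subtype.val (Equiv.ext_iff.1 hg u)
    rwa [Equiv.permCongr_apply, Equiv.symm_symm] at this
  show ((k : Equiv.Perm GolayPt) * ((g : M24) : Equiv.Perm GolayPt) * (k : Equiv.Perm GolayPt)⁻¹) •
    ((k : Equiv.Perm GolayPt) • u.1) = _
  rw [mul_smul, mul_smul, inv_smul_smul, hu]
  show (k : Equiv.Perm GolayPt) • ((k : Equiv.Perm GolayPt)⁻¹ • (e (c u)).1) = _
  rw [smul_inv_smul]

theorem card_fix_sextet {S : Finset (Finset GolayPt)} (hS : S ∈ sextets) :
    Nat.card {g : stabilizer M24 S // ∀ t ∈ S, ((g : M24) : Equiv.Perm GolayPt) • t = t} = 192 := by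
  have h := card_fix_mul (surjective_any hS)
  rw [card_stab_sextet hS, hS.1, show Nat.factorial 6 = 720 by decide] at h
  omega

/-! ### The normal subgroup of order 64 -/

/-- The permutations in the group of the code fixing every member of a family. -/
def fixFam (S : Finset (Finset GolayPt)) : Subgroup (Equiv.Perm GolayPt) where
  carrier := {g | g ∈ M24 ∧ ∀ t ∈ S, g • t = t}
  one_mem' := ⟨one_mem _, fun t _ => one_smul _ t⟩
  mul_mem' := fun {g h} hg hh => ⟨mul_mem hg.1 hh.1, fun t ht => by rw [mul_smul, hh.2 t ht, hg.2 t ht]⟩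
  inv_mem' := fun {g} hg => ⟨inv_mem hg.1, fun t ht => inv_smul_eq_iff.2 (hg.2 t ht).symm⟩

theorem fixFam_stab {S : Finset (Finset GolayPt)} {g : Equiv.Perm GolayPt} (hg : g ∈ fixFam S) :
    g • S = S := by
  refine Finset.eq_of_subset_of_card_le (fun x hx => ?_) (by rw [Finset.card_smul_finset])
  obtain ⟨t, ht, rfl⟩ := Finset.mem_smul_finset.1 hx
  rw [hg.2 t ht]; exact ht

theorem card_fixFam {S : Finset (Finset GolayPt)} (hS : S ∈ sextets) : Nat.card (fixFam S) = 192 := by
  rw [← card_fix_sextet hS]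
  exact Nat.card_congr
    { toFun := fun g => ⟨⟨⟨g.1, g.2.1⟩, fixFam_stab g.2⟩, g.2.2⟩
      invFun := fun g => ⟨g.1.1.1, g.1.1.2, g.2⟩
      left_inv := fun g => rfl
      right_inv := fun g => rfl }

/-- The self-inverse codes among those fixing every tetrad. -/
noncomputable def sextInvs : List ℕ :=
  sextKer.filter fun p => (List.range 24).all fun i =>
    Nat.beq (Comp.PermCode.get p (Comp.PermCode.get p i)) i

theorem sextKer_check :
    (sextKer.all fun p => okM24 p &&
      sextetCert.base.all fun t => Nat.beq (app p t) t) = true ∧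
    distinctCodes sextPts sextKer = true ∧ sextKer.length = 192 ∧
    sextInvs.length = 64 ∧
    (sextInvs.all fun p => sextInvs.all fun q => (List.range 24).all fun i =>
      Nat.beq (Comp.PermCode.get p (Comp.PermCode.get q i))
        (Comp.PermCode.get q (Comp.PermCode.get p i))) = true ∧
    (sextPts.all fun b => Nat.blt b 24) = true := by
  decide +kernel

theorem sextKer_mem {p : ℕ} (hp : p ∈ sextKer) : Comp.PermCode.Ok 24 p ∧ perm p ∈ fixFam S₀ := by
  have h := List.all_eq_true.1 sextKer_check.1 p hp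
  simp only [Bool.and_eq_true, List.all_eq_true, Nat.beq_eq] at h
  refine ⟨okM24_ok h.1, perm_mem_M24 h.1, famDec_forall fun t ht => ?_⟩
  rw [← toSet_app (okM24_ok h.1), h.2 t ht]

theorem sextKer_nodup : (sextKer.map perm).Nodup :=
  nodup_perm (fun b hb => by
    have := List.all_eq_true.1 sextKer_check.2.2.2.2.2 b hb
    simpa [Nat.blt_eq] using this) (fun p hp => (sextKer_mem hp).1) sextKer_check.2.1

theorem perm_eq_mul_iff {p q : ℕ} (hp : Comp.PermCode.Ok 24 p) (hq : Comp.PermCode.Ok 24 q) :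
    ((List.range 24).all fun i => Nat.beq (Comp.PermCode.get p (Comp.PermCode.get q i))
      (Comp.PermCode.get q (Comp.PermCode.get p i))) = true → perm p * perm q = perm q * perm p := by
  intro h
  refine Equiv.ext fun x => Golay.bit_injective ?_
  simp only [Equiv.Perm.mul_apply, bit_perm hp, bit_perm hq]
  exact Nat.eq_of_beq_eq_true (List.all_eq_true.1 h _ (List.mem_range.2 (Golay.bit_lt x)))

theorem sq_iff {p : ℕ} (hp : p ∈ sextKer) : perm p * perm p = 1 ↔ p ∈ sextInvs := by
  have hok := (sextKer_mem hp).1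
  simp only [sextInvs, List.mem_filter, hp, true_and, List.all_eq_true, List.mem_range, Nat.beq_eq]
  constructor
  · intro h i hi
    have := congrArg (fun g : Equiv.Perm GolayPt => Golay.bit (g (Golay.pt i))) h
    simpa [bit_perm hok, Golay.bit_pt hi] using this
  · intro h
    refine Equiv.ext fun x => Golay.bit_injective ?_
    simp only [Equiv.Perm.mul_apply, bit_perm hok, Equiv.Perm.one_apply]
    exact h _ (Golay.bit_lt x)

theorem exists_sextInvs {g : Equiv.Perm GolayPt} (hg : g ∈ fixFam S₀) (h1 : g * g = 1) :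
    ∃ p ∈ sextInvs, perm p = g := by
  obtain ⟨p, hp, rfl⟩ := exists_code_of_card (fun p hp => (sextKer_mem hp).2) sextKer_nodup
    (by rw [sextKer_check.2.2.1, card_fixFam sextetBase_mem]) hg
  exact ⟨p, (sq_iff hp).1 h1, rfl⟩

theorem base_commute {g h : Equiv.Perm GolayPt} (hg : g ∈ fixFam S₀) (hh : h ∈ fixFam S₀)
    (g1 : g * g = 1) (h1 : h * h = 1) : g * h = h * g := by
  obtain ⟨p, hp, rfl⟩ := exists_sextInvs hg g1
  obtain ⟨q, hq, rfl⟩ := exists_sextInvs hh h1
  exact perm_eq_mul_iff (sextKer_mem (List.mem_filter.1 hp).1).1 (sextKer_mem (List.mem_filter.1 hq).1).1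
    (List.all_eq_true.1 (List.all_eq_true.1 sextKer_check.2.2.2.2.1 p hp) q hq)

theorem base_count :
    {g : Equiv.Perm GolayPt | g ∈ fixFam S₀ ∧ g * g = 1}.ncard = 64 := by
  classical
  have e : {g : Equiv.Perm GolayPt | g ∈ fixFam S₀ ∧ g * g = 1} = ↑((sextInvs.map perm).toFinset) := by
    ext g
    simp only [Set.mem_ofPred_eq, List.coe_toFinset, List.mem_map]
    refine ⟨fun h => exists_sextInvs h.1 h.2, ?_⟩
    rintro ⟨p, hp, rfl⟩
    exact ⟨(sextKer_mem (List.mem_filter.1 hp).1).2, (sq_iff (List.mem_filter.1 hp).1).2 hp⟩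
  rw [e, Set.ncard_coe_finset, List.toFinset_card_of_nodup, List.length_map, sextKer_check.2.2.2.1]
  exact sextKer_nodup.sublist (List.filter_sublist.map perm)

theorem fixFam_conj {S : Finset (Finset GolayPt)} (k : M24) {g : Equiv.Perm GolayPt} :
    g ∈ fixFam (k • S) ↔
      (k : Equiv.Perm GolayPt)⁻¹ * g * (k : Equiv.Perm GolayPt) ∈ fixFam S := by
  constructor
  · rintro ⟨hg, h⟩
    refine ⟨mul_mem (mul_mem (inv_mem k.2) hg) k.2, fun t ht => ?_⟩
    rw [mul_smul, mul_smul, h _ (Finset.smul_mem_smul_finset (a := (k : Equiv.Perm GolayPt)) ht),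
      inv_smul_smul]
  · rintro ⟨hg, h⟩
    refine ⟨?_, fun t ht => ?_⟩
    · have := mul_mem (mul_mem k.2 hg) (inv_mem k.2)
      simpa [mul_assoc] using this
    · obtain ⟨u, hu, rfl⟩ := Finset.mem_smul_finset.1 (show t ∈ (k : Equiv.Perm GolayPt) • S from ht)
      have := congrArg ((k : Equiv.Perm GolayPt) • ·) (h u hu)
      simp only [mul_smul, smul_inv_smul] at this
      exact this

theorem sextet_structure {S : Finset (Finset GolayPt)} (hS : S ∈ sextets) :
    (∀ e : Equiv.Perm ↥S, ∃ g ∈ stabilizer M24 S, ∀ t : ↥S,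
      (g : Equiv.Perm GolayPt) • (t : Finset GolayPt) = ((e t : ↥S) : Finset GolayPt)) ∧
    Nat.card {g : ↥(stabilizer M24 S) // ∀ t ∈ S, ((g : M24) : Equiv.Perm GolayPt) • t = t} = 192 ∧
    ∃ N : Subgroup ↥(stabilizer M24 S), N.Normal ∧ Nat.card N = 64 ∧ ∀ x ∈ N, x * x = 1 := by
  refine ⟨fun e => ?_, card_fix_sextet hS, ?_⟩
  · obtain ⟨g, rfl⟩ := surjective_any hS e
    exact ⟨g.1, g.2, fun t => rfl⟩
  obtain ⟨k, rfl⟩ := sextet_transitive hS
  set f : Equiv.Perm GolayPt →* Equiv.Perm GolayPt := (MulAut.conj (k : Equiv.Perm GolayPt)⁻¹).toMonoidHom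
    with hf
  have hfv : ∀ g, f g = (k : Equiv.Perm GolayPt)⁻¹ * g * (k : Equiv.Perm GolayPt) := fun g => by simp [hf]
  have comm : ∀ {g h : Equiv.Perm GolayPt}, g ∈ fixFam (k • S₀) → h ∈ fixFam (k • S₀) →
      g * g = 1 → h * h = 1 → g * h = h * g := by
    intro g h hg hh g1 h1
    have := base_commute (g := f g) (h := f h) (hfv g ▸ (fixFam_conj k).1 hg)
      (hfv h ▸ (fixFam_conj k).1 hh) (by rw [← map_mul, g1, map_one]) (by rw [← map_mul, h1, map_one])
    rw [← map_mul, ← map_mul] at this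
    exact (MulAut.conj (k : Equiv.Perm GolayPt)⁻¹).injective this
  let N : Subgroup ↥(stabilizer M24 (k • S₀)) :=
    { carrier := {x | ((x.1 : M24) : Equiv.Perm GolayPt) ∈ fixFam (k • S₀) ∧ x * x = 1}
      one_mem' := ⟨one_mem _, one_mul 1⟩
      mul_mem' := fun {x y} hx hy => ⟨mul_mem hx.1 hy.1, by
        have hc : x * y = y * x := Subtype.ext (Subtype.ext (comm hx.1 hy.1
          (congrArg (fun z : ↥(stabilizer M24 (k • S₀)) => ((z.1 : M24) : Equiv.Perm GolayPt)) hx.2)
          (congrArg (fun z : ↥(stabilizer M24 (k • S₀)) => ((z.1 : M24) : Equiv.Perm GolayPt)) hy.2)))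
        calc x * y * (x * y) = x * y * (y * x) := by rw [← hc]
          _ = 1 := by rw [mul_assoc, ← mul_assoc y y x, hy.2, one_mul, hx.2]⟩
      inv_mem' := fun {x} hx => by rw [inv_eq_of_mul_eq_one_right hx.2]; exact hx }
  refine ⟨N, ⟨?_⟩, ?_, fun x hx => hx.2⟩
  · intro x hx g
    refine ⟨⟨((g * x * g⁻¹).1 : M24).2, fun t ht => ?_⟩, by
      rw [show g * x * g⁻¹ * (g * x * g⁻¹) = g * (x * x) * g⁻¹ by group, hx.2]; group⟩
    show (((g : M24) : Equiv.Perm GolayPt) * ((x : M24) : Equiv.Perm GolayPt) * ((g : M24) : Equiv.Perm GolayPt)⁻¹) • t = t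
    have h1 := hx.1.2 (((g : M24) : Equiv.Perm GolayPt)⁻¹ • t) (smul_mem_fam g⁻¹ ht)
    rw [mul_smul, mul_smul, h1, smul_inv_smul]
  · rw [← base_count]
    refine (Nat.card_congr ?_).trans (Nat.card_coe_set_eq _)
    refine
      { toFun := fun x => ⟨f ((x.1.1 : M24) : Equiv.Perm GolayPt), hfv _ ▸ (fixFam_conj k).1 x.2.1,
          by rw [← map_mul]; exact (congrArg f (congrArg
            (fun z : ↥(stabilizer M24 (k • S₀)) => ((z.1 : M24) : Equiv.Perm GolayPt)) x.2.2)).trans (map_one f)⟩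
        invFun := fun g =>
          have h : (k : Equiv.Perm GolayPt) * g.1 * (k : Equiv.Perm GolayPt)⁻¹ ∈ fixFam (k • S₀) :=
            (fixFam_conj k).2 (by simpa [mul_assoc] using g.2.1)
          ⟨⟨⟨_, h.1⟩, fixFam_stab h⟩, h, Subtype.ext (Subtype.ext (by
            show (k : Equiv.Perm GolayPt) * g.1 * (k : Equiv.Perm GolayPt)⁻¹ *
              ((k : Equiv.Perm GolayPt) * g.1 * (k : Equiv.Perm GolayPt)⁻¹) = 1
            rw [show (k : Equiv.Perm GolayPt) * g.1 * (k : Equiv.Perm GolayPt)⁻¹ *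
              ((k : Equiv.Perm GolayPt) * g.1 * (k : Equiv.Perm GolayPt)⁻¹) =
              (k : Equiv.Perm GolayPt) * (g.1 * g.1) * (k : Equiv.Perm GolayPt)⁻¹ by group, g.2.2]
            group))⟩
        left_inv := fun x => Subtype.ext (Subtype.ext (Subtype.ext (by
          show (k : Equiv.Perm GolayPt) * f _ * (k : Equiv.Perm GolayPt)⁻¹ = _
          rw [hfv]; group)))
        right_inv := fun g => Subtype.ext (by
          show f ((k : Equiv.Perm GolayPt) * g.1 * (k : Equiv.Perm GolayPt)⁻¹) = g.1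
          rw [hfv]; group) }

end CfsgLib.M24Stab
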