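import Cfsg.Agent.Lib.M24Stab.Sextet
import Cfsg.Agent.Lib.M24Stab.TrioData
import Cfsg.Agent.Lib.M24Orbits.Trio
import Mathlib.LinearAlgebra.Matrix.GeneralLinearGroup.Card
import Mathlib.Data.Fintype.Perm
import Mathlib.GroupTheory.QuotientGroup.Basic

/-!
The stabiliser of a trio: a normal subgroup of order 64 with quotient `GL(3, 2) × S₃`.
-/

set_option autoImplicit false

namespace CfsgLib.M24Stab

open Cfsg CfsgLib MulAction M24Orbits
open scoped Pointwise

local notation "T₀" => famDec trioCert.base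

/-- The `i`-th refining sextet, as masks. -/
def refMasks (i : Fin 7) : List ℕ := trioSext.getD i []

/-- The `j`-th octad of the base trio. -/
def octMask (j : Fin 3) : ℕ := trioCert.base.getD j 0

/-- The octad of the base trio through the extra point. -/
def topMask : ℕ := 13062145

/-- Every tetrad lies in an octad of the base trio. -/
def refB (s : List ℕ) : Bool := s.all fun x => trioCert.base.any fun o => Nat.beq (x &&& o) x

theorem top_checks :
    (trioCert.base.all fun o => !(o.testBit 23) || Nat.beq o topMask) = true ∧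
    (tetradTopList.all fun b => !(Nat.beq (b &&& topMask) b) || topSext.any fun s => s.any (Nat.beq b)) = true ∧
    (topSext.all fun s => s.all (fun x => Nat.blt x 16777216 && Nat.beq (Golay.pc24 x) 4) &&
      Nat.beq s.length 6 && decide s.Nodup &&
      s.all (fun x => s.all fun y => Nat.beq x y || isOct (x ||| y)) &&
      (!refB s || (List.finRange 7).any fun i => subFam s (refMasks i) && subFam (refMasks i) s)) = true ∧
    (trioCert.base.all fun o => Nat.blt o 16777216) = true ∧
    (∀ i : Fin 7, (refMasks i).all (fun x => Nat.blt x 16777216 && Nat.beq (Golay.pc24 x) 4) = true ∧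
      (refMasks i).length = 6 ∧ (refMasks i).Nodup ∧
      ((refMasks i).all fun x => (refMasks i).all fun y => Nat.beq x y || isOct (x ||| y)) = true ∧
      refB (refMasks i) = true) ∧
    (∀ i j : Fin 7, i ≠ j → (refMasks i).any (fun x => !(refMasks j).contains x) = true) ∧
    (∀ i j : Fin 3, i ≠ j → octMask i ≠ octMask j) := by
  decide +kernel

theorem sextet_of_masks {s : List ℕ}
    (h1 : s.all (fun x => Nat.blt x 16777216 && Nat.beq (Golay.pc24 x) 4) = true) (h2 : s.length = 6)
    (h3 : s.Nodup) (h4 : (s.all fun x => s.all fun y => Nat.beq x y || isOct (x ||| y)) = true) :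
    famDec s ∈ sextets := by
  simp only [List.all_eq_true, Bool.and_eq_true] at h1
  refine ⟨?_, famDec_forall fun x hx => ?_, fun _ ht _ hu hne => famDec_union_isOct h4 ht hu hne⟩
  · rw [famDec_card (List.all_eq_true.2 fun x hx => (h1 x hx).1) h3, h2]
  · rw [Golay.card_toSet, ← Golay.pc24_eq]
    exact Nat.eq_of_beq_eq_true (h1 x hx).2

theorem refMasks_sextet (i : Fin 7) : famDec (refMasks i) ∈ sextets := by
  obtain ⟨h1, h2, h3, h4, -⟩ := top_checks.2.2.2.2.1 i
  exact sextet_of_masks h1 h2 h3 h4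

theorem octMask_mem (j : Fin 3) : Golay.toSet (octMask j) ∈ T₀ := by
  revert j; decide +kernel

/-- The refining sextets. -/
noncomputable def refSet : Finset (Finset (Finset GolayPt)) :=
  Finset.univ.image fun i : Fin 7 => famDec (refMasks i)

theorem refMasks_mem (i : Fin 7) : famDec (refMasks i) ∈ refSet :=
  Finset.mem_image_of_mem _ (Finset.mem_univ i)

theorem refMasks_injective : Function.Injective fun i : Fin 7 => famDec (refMasks i) := by
  intro i j e
  by_contra hne
  obtain ⟨x, hx, hx'⟩ := List.any_eq_true.1 (top_checks.2.2.2.2.2.1 i j hne)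
  have hm : Golay.toSet x ∈ famDec (refMasks j) := by
    rw [← show famDec (refMasks i) = famDec (refMasks j) from e]
    exact List.mem_toFinset.2 (List.mem_map.2 ⟨x, hx, rfl⟩)
  simp only [famDec, List.mem_toFinset, List.mem_map] at hm
  obtain ⟨y, hy, he⟩ := hm
  have hlt : ∀ k, ∀ z ∈ refMasks k, z < 2 ^ 24 := fun k z hz => by
    have := List.all_eq_true.1 (top_checks.2.2.2.2.1 k).1 z hz
    simp only [Bool.and_eq_true, Nat.blt_eq] at this
    exact this.1
  rw [Golay.toSet_inj (hlt j y hy) (hlt i x hx) he] at hy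
  simp [hy] at hx'

/-- A sextet refining the base trio is one of the seven. -/
theorem mem_refSet {S : Finset (Finset GolayPt)} (hS : S ∈ sextets)
    (href : ∀ t ∈ S, ∃ o ∈ T₀, t ⊆ o) : S ∈ refSet := by
  classical
  obtain ⟨t, ht, hn⟩ : ∃ t ∈ S, none ∈ t := by
    by_contra hno
    simp only [not_exists, not_and] at hno
    have hdis : (S : Set (Finset GolayPt)).PairwiseDisjoint id := fun t ht u hu hne =>
      GolayDesign.tetrads_disjoint (hS.2.1 t ht) (hS.2.1 u hu) (hS.2.2 t ht u hu hne)
    have h24 : (S.biUnion id).card = 24 := by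
      rw [Finset.card_biUnion hdis,
        Finset.sum_congr rfl (fun t ht => show (id t).card = 4 from hS.2.1 t ht), Finset.sum_const, hS.1]
      rfl
    have huniv := Finset.eq_univ_of_card (S.biUnion id) (by rw [h24]; simp)
    have : none ∈ S.biUnion id := huniv ▸ Finset.mem_univ _
    obtain ⟨t, ht, htn⟩ := Finset.mem_biUnion.1 this
    exact hno t ht htn
  obtain ⟨c1, c2, c3, c4, -⟩ := top_checks
  have hlt : ∀ o ∈ trioCert.base, o < 2 ^ 24 := fun o ho => by
    simpa [Nat.blt_eq] using List.all_eq_true.1 c4 o ho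
  obtain ⟨b, hb, rfl⟩ := exists_tetradTopList (hS.2.1 t ht) hn
  obtain ⟨o, ho, hto⟩ := href _ ht
  simp only [famDec, List.mem_toFinset, List.mem_map] at ho
  obtain ⟨o, ho, rfl⟩ := ho
  have htop : o = topMask := by
    have := List.all_eq_true.1 c1 o ho
    have h23 : o.testBit 23 = true := Golay.mem_toSet.1 (hto hn)
    simpa [h23, Nat.beq_eq] using this
  subst htop
  have hb24 : b < 2 ^ 24 := by
    have : (tetradTopList.all fun b => Nat.blt b 16777216) = true := by decide +kernel
    simpa [Nat.blt_eq] using List.all_eq_true.1 this b hb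
  have hsub : b &&& topMask = b := by
    refine Golay.toSet_inj (lt_of_le_of_lt Nat.and_le_left hb24) hb24 ?_
    rw [Golay.toSet_and]; exact Finset.inter_eq_left.2 hto
  obtain ⟨s, hs, hbs⟩ : ∃ s ∈ topSext, b ∈ s := by
    have := List.all_eq_true.1 c2 b hb
    simp only [hsub, Bool.or_eq_true, Bool.not_eq_true', List.any_eq_true, Nat.beq_eq] at this
    rcases this with h | ⟨s, hs, x, hx, rfl⟩
    · simp at h
    · exact ⟨s, hs, hx⟩
  have h3 := List.all_eq_true.1 c3 s hs
  simp only [Bool.and_eq_true, Nat.beq_eq, decide_eq_true_eq] at h3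
  obtain ⟨⟨⟨⟨g1, g2⟩, g3⟩, g4⟩, g5⟩ := h3
  have hsx := sextet_of_masks g1 g2 g3 g4
  have hbm : Golay.toSet b ∈ famDec s := List.mem_toFinset.2 (List.mem_map.2 ⟨b, hbs, rfl⟩)
  have hSeq : S = famDec s :=
    (GolayDesign.sextet_eq hS ht).trans (GolayDesign.sextet_eq hsx hbm).symm
  subst hSeq
  have hr : refB s = true := by
    refine List.all_eq_true.2 fun x hx => ?_
    have hx24 : x < 2 ^ 24 := by
      have := List.all_eq_true.1 g1 x hx
      simp only [Bool.and_eq_true, Nat.blt_eq] at this; exact this.1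
    obtain ⟨o, ho, hxo⟩ := href (Golay.toSet x) (List.mem_toFinset.2 (List.mem_map.2 ⟨x, hx, rfl⟩))
    simp only [famDec, List.mem_toFinset, List.mem_map] at ho
    obtain ⟨o, ho, rfl⟩ := ho
    refine List.any_eq_true.2 ⟨o, ho, ?_⟩
    rw [Nat.beq_eq]
    refine Golay.toSet_inj (lt_of_le_of_lt Nat.and_le_left hx24) hx24 ?_
    rw [Golay.toSet_and]; exact Finset.inter_eq_left.2 hxo
  simp only [hr, Bool.not_true, Bool.false_or, List.any_eq_true, Bool.and_eq_true] at g5
  obtain ⟨i, -, h1, h2⟩ := g5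
  rw [Finset.Subset.antisymm (subFam_sound h1) (subFam_sound h2)]
  exact refMasks_mem i

theorem refines (i : Fin 7) : ∀ t ∈ famDec (refMasks i), ∃ o ∈ T₀, t ⊆ o := by
  refine famDec_forall fun x hx => ?_
  obtain ⟨o, ho, he⟩ := List.any_eq_true.1 (List.all_eq_true.1 (top_checks.2.2.2.2.1 i).2.2.2.2 x hx)
  refine ⟨Golay.toSet o, List.mem_toFinset.2 (List.mem_map.2 ⟨o, ho, rfl⟩), ?_⟩
  rw [← Nat.eq_of_beq_eq_true he, Golay.toSet_and]
  exact Finset.inter_subset_right

theorem stab_le : stabilizer M24 T₀ ≤ stabilizer M24 refSet := by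
  intro g hg
  have hg' : ∀ o ∈ T₀, ((g : M24) : Equiv.Perm GolayPt) • o ∈ T₀ := fun o ho =>
    smul_mem_fam ⟨g, hg⟩ ho
  rw [mem_stabilizer_iff]
  refine Finset.eq_of_subset_of_card_le (fun S hS => ?_) (by rw [Finset.card_smul_finset])
  obtain ⟨R, hR, rfl⟩ := Finset.mem_smul_finset.1 hS
  obtain ⟨i, -, rfl⟩ := Finset.mem_image.1 hR
  refine mem_refSet (smul_mem_sextets g (refMasks_sextet i)) fun t ht => ?_
  obtain ⟨u, hu, rfl⟩ := Finset.mem_smul_finset.1 ht
  obtain ⟨o, ho, huo⟩ := refines i u hu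
  exact ⟨_, hg' o ho, Finset.smul_finset_subset_smul_finset huo⟩

/-- The refining sextets numbered. -/
noncomputable def refNum : Fin 7 ≃ {S // S ∈ refSet} :=
  Equiv.ofBijective (fun i => ⟨famDec (refMasks i), refMasks_mem i⟩) (by
    refine (Fintype.bijective_iff_injective_and_card _).2
      ⟨fun i j e => refMasks_injective (congrArg Subtype.val e), ?_⟩
    rw [Fintype.card_fin, Fintype.card_coe, refSet, Finset.card_image_of_injective _ refMasks_injective]
    simp)

/-- The octads numbered. -/
noncomputable def octNum : Fin 3 ≃ {o // o ∈ T₀} :=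
  Equiv.ofBijective (fun j => ⟨Golay.toSet (octMask j), octMask_mem j⟩) (by
    have hlt : ∀ j, octMask j < 2 ^ 24 := by decide +kernel
    refine (Fintype.bijective_iff_injective_and_card _).2 ⟨fun i j e => ?_, ?_⟩
    · by_contra hne
      exact top_checks.2.2.2.2.2.2 i j hne (Golay.toSet_inj (hlt i) (hlt j) (congrArg Subtype.val e))
    · rw [Fintype.card_fin, Fintype.card_coe, trioBase_mem.1])

/-- The action on the refining sextets and on the octads. -/
noncomputable def trioAct : stabilizer M24 T₀ →* Equiv.Perm (Fin 7) × Equiv.Perm (Fin 3) :=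
  MonoidHom.prod
    (refNum.symm.permCongrHom.toMonoidHom.comp
      ((onFam refSet).comp (Subgroup.inclusion stab_le)))
    (octNum.symm.permCongrHom.toMonoidHom.comp (onFam T₀))

theorem trioAct_fst (g : stabilizer M24 T₀) (i : Fin 7) :
    famDec (refMasks ((trioAct g).1 i)) = ((g : M24) : Equiv.Perm GolayPt) • famDec (refMasks i) :=
  congrArg Subtype.val (refNum.apply_symm_apply (onFam refSet (Subgroup.inclusion stab_le g) (refNum i)))

theorem trioAct_snd (g : stabilizer M24 T₀) (j : Fin 3) :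
    Golay.toSet (octMask ((trioAct g).2 j)) = ((g : M24) : Equiv.Perm GolayPt) • Golay.toSet (octMask j) :=
  congrArg Subtype.val (octNum.apply_symm_apply (onFam T₀ g (octNum j)))

attribute [irreducible] trioAct

/-- A code inducing given maps. -/
noncomputable def codeB (p : ℕ) (f : Fin 7 → Fin 7) (h : Fin 3 → Fin 3) : Bool :=
  okM24 p && (List.finRange 7).all (fun i =>
      subFam ((refMasks i).map (app p)) (refMasks (f i)) && subFam (refMasks (f i)) ((refMasks i).map (app p))) &&
    (List.finRange 3).all fun j => Nat.beq (app p (octMask j)) (octMask (h j))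

theorem code_sound {p : ℕ} {f : Equiv.Perm (Fin 7)} {h : Equiv.Perm (Fin 3)}
    (hc : codeB p f h = true) :
    ∃ g : stabilizer M24 T₀, ((g : M24) : Equiv.Perm GolayPt) = perm p ∧ trioAct g = (f, h) := by
  simp only [codeB, Bool.and_eq_true, List.all_eq_true, List.mem_finRange, true_implies, Nat.beq_eq] at hc
  obtain ⟨⟨hok, hf⟩, hh⟩ := hc
  have hoct : ∀ j, perm p • Golay.toSet (octMask j) = Golay.toSet (octMask (h j)) := fun j => by
    rw [← toSet_app (okM24_ok hok), hh]
  have hsx : ∀ i, perm p • famDec (refMasks i) = famDec (refMasks (f i)) := fun i => by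
    rw [← famDec_img (okM24_ok hok)]
    exact Finset.Subset.antisymm (subFam_sound (hf i).1) (subFam_sound (hf i).2)
  have hg : elt p hok ∈ stabilizer M24 T₀ := by
    show perm p • T₀ = T₀
    refine Finset.eq_of_subset_of_card_le (fun x hx => ?_) (by rw [Finset.card_smul_finset])
    obtain ⟨t, ht, rfl⟩ := Finset.mem_smul_finset.1 hx
    obtain ⟨j, hj⟩ := octNum.surjective ⟨t, ht⟩
    have : Golay.toSet (octMask j) = t := congrArg Subtype.val hj
    rw [← this, hoct]; exact octMask_mem _
  refine ⟨⟨elt p hok, hg⟩, rfl, Prod.ext (Equiv.ext fun i => ?_) (Equiv.ext fun j => ?_)⟩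
  · apply refMasks_injective
    show famDec (refMasks _) = famDec (refMasks _)
    rw [trioAct_fst]; exact hsx i
  · have hlt : ∀ j, octMask j < 2 ^ 24 := by decide +kernel
    have e : octMask ((trioAct ⟨elt p hok, hg⟩).2 j) = octMask (h j) := by
      refine Golay.toSet_inj (hlt _) (hlt _) ?_
      rw [trioAct_snd]; exact hoct j
    by_contra hne
    exact top_checks.2.2.2.2.2.2 _ _ hne e

/-! ### Linear maps of a space of dimension three -/

/-- The number of a vector. -/
def encV (v : Fin 3 → ZMod 2) : ℕ := (v 0).val + 2 * (v 1).val + 4 * (v 2).val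

/-- The vector with a given number, shifted by one. -/
def vecI (i : Fin 7) : Fin 3 → ZMod 2 := fun k => if ((i.val + 1).testBit k.val) then 1 else 0

/-- The index of a nonzero vector. -/
def idxV (v : Fin 3 → ZMod 2) : Fin 7 := ⟨(encV v + 6) % 7, Nat.mod_lt _ (by norm_num)⟩

theorem vec_facts : (∀ i, idxV (vecI i) = i) ∧ (∀ v, v ≠ 0 → vecI (idxV v) = v) ∧ (∀ i, vecI i ≠ 0) ∧
    (∀ i, encV (vecI i) = i.val + 1) := by
  decide +kernel

/-- The image of a number under the map given by the images of a basis. -/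
def glImg (a b c v : ℕ) : ℕ :=
  (bif v.testBit 0 then a else 0) ^^^ (bif v.testBit 1 then b else 0) ^^^ (bif v.testBit 2 then c else 0)

theorem encV_add : ∀ x y : Fin 3 → ZMod 2, encV (x + y) = encV x ^^^ encV y := by
  decide +kernel

theorem encV_bits : ∀ v : Fin 3 → ZMod 2, (encV v).testBit 0 = decide (v 0 = 1) ∧
    (encV v).testBit 1 = decide (v 1 = 1) ∧ (encV v).testBit 2 = decide (v 2 = 1) := by
  decide +kernel

theorem encV_smul (a : ZMod 2) (x : Fin 3 → ZMod 2) :
    encV (fun k => x k * a) = bif decide (a = 1) then encV x else 0 := by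
  rcases Golay.zmod_two_cases a with rfl | rfl
  · simp [encV]
  · simp

theorem encV_comb (x y z v : Fin 3 → ZMod 2) :
    encV (fun k => x k * v 0 + y k * v 1 + z k * v 2) = glImg (encV x) (encV y) (encV z) (encV v) := by
  obtain ⟨h0, h1, h2⟩ := encV_bits v
  rw [glImg, h0, h1, h2, ← encV_smul, ← encV_smul, ← encV_smul, ← encV_add, ← encV_add]
  rfl

/-- The permutation of the seven nonzero vectors. -/
def glPerm : GL (Fin 3) (ZMod 2) →* Equiv.Perm (Fin 7) :=
  have hne : ∀ (g : GL (Fin 3) (ZMod 2)) (v : Fin 3 → ZMod 2), v ≠ 0 → g.val.mulVec v ≠ 0 := by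
    intro g v hv h
    have := congrArg (g⁻¹).val.mulVec h
    rw [Matrix.mulVec_mulVec, ← Units.val_mul, inv_mul_cancel, Units.val_one, Matrix.one_mulVec,
      Matrix.mulVec_zero] at this
    exact hv this
  { toFun := fun g =>
      { toFun := fun i => idxV (g.val.mulVec (vecI i))
        invFun := fun i => idxV ((g⁻¹).val.mulVec (vecI i))
        left_inv := fun i => by
          show idxV ((g⁻¹).val.mulVec (vecI (idxV (g.val.mulVec (vecI i))))) = i
          rw [vec_facts.2.1 _ (hne g _ (vec_facts.2.2.1 i)), Matrix.mulVec_mulVec, ← Units.val_mul,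
            inv_mul_cancel, Units.val_one, Matrix.one_mulVec, vec_facts.1]
        right_inv := fun i => by
          show idxV (g.val.mulVec (vecI (idxV ((g⁻¹).val.mulVec (vecI i))))) = i
          rw [vec_facts.2.1 _ (hne g⁻¹ _ (vec_facts.2.2.1 i)), Matrix.mulVec_mulVec, ← Units.val_mul,
            mul_inv_cancel, Units.val_one, Matrix.one_mulVec, vec_facts.1] }
    map_one' := Equiv.ext fun i => by
      show idxV ((1 : GL (Fin 3) (ZMod 2)).val.mulVec (vecI i)) = i
      rw [Units.val_one, Matrix.one_mulVec, vec_facts.1]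
    map_mul' := fun g h => Equiv.ext fun i => by
      show idxV ((g * h).val.mulVec (vecI i)) = idxV (g.val.mulVec (vecI (idxV (h.val.mulVec (vecI i)))))
      rw [vec_facts.2.1 _ (hne h _ (vec_facts.2.2.1 i)), Matrix.mulVec_mulVec, Units.val_mul] }

theorem glPerm_injective : Function.Injective glPerm := by
  intro g h e
  have hv : ∀ v, g.val.mulVec v = h.val.mulVec v := by
    intro v
    by_cases hv : v = 0
    · rw [hv, Matrix.mulVec_zero, Matrix.mulVec_zero]
    have h1 : idxV (g.val.mulVec (vecI (idxV v))) = idxV (h.val.mulVec (vecI (idxV v))) :=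
      Equiv.ext_iff.1 e (idxV v)
    rw [vec_facts.2.1 v hv] at h1
    have h2 := congrArg vecI h1
    have hg : ∀ k : GL (Fin 3) (ZMod 2), k.val.mulVec v ≠ 0 := fun k hk => by
      have := congrArg (k⁻¹).val.mulVec hk
      rw [Matrix.mulVec_mulVec, ← Units.val_mul, inv_mul_cancel, Units.val_one, Matrix.one_mulVec,
        Matrix.mulVec_zero] at this
      exact hv this
    rwa [vec_facts.2.1 _ (hg g), vec_facts.2.1 _ (hg h)] at h2
  exact Units.ext (Matrix.mulVec_injective (funext hv))

/-- The check of the table of linear maps. -/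
noncomputable def glB : Bool :=
  (List.range 512).all fun m =>
    let a := m / 64
    let b := m / 8 % 8
    let c := m % 8
    (List.range 7).any (fun i => Nat.beq (glImg a b c (i + 1)) 0) ||
      codeB (trioGL.getD m 0) (fun i => ⟨(glImg a b c (i.val + 1) + 6) % 7, Nat.mod_lt _ (by norm_num)⟩) id

theorem gl_check : glB = true := by decide +kernel

theorem exists_gl (g : GL (Fin 3) (ZMod 2)) : ∃ x, trioAct x = (glPerm g, 1) := by
  set x : Fin 3 → ZMod 2 := fun k => g.val k 0
  set y : Fin 3 → ZMod 2 := fun k => g.val k 1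
  set z : Fin 3 → ZMod 2 := fun k => g.val k 2
  have hval : ∀ v, encV (g.val.mulVec v) = glImg (encV x) (encV y) (encV z) (encV v) := by
    intro v
    rw [← encV_comb]
    congr 1
    funext k
    simp [Matrix.mulVec, dotProduct, Fin.sum_univ_three, x, y, z]
  have hb : ∀ w : Fin 3 → ZMod 2, encV w < 8 := by decide +kernel
  set m := encV x * 64 + encV y * 8 + encV z with hm
  have h1 := hb x; have h2 := hb y; have h3 := hb z
  have e1 : m / 64 = encV x := by omega
  have e2 : m / 8 % 8 = encV y := by omega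
  have e3 : m % 8 = encV z := by omega
  have hc := List.all_eq_true.1 gl_check m (List.mem_range.2 (by omega))
  simp only [e1, e2, e3, Bool.or_eq_true, List.any_eq_true, List.mem_range, Nat.beq_eq] at hc
  have hf : ∀ i : Fin 7, glImg (encV x) (encV y) (encV z) (i.val + 1) = encV (g.val.mulVec (vecI i)) :=
    fun i => by rw [hval, vec_facts.2.2.2]
  rcases hc with ⟨i, hi, h0⟩ | hc
  · exfalso
    have h4 := hf ⟨i, hi⟩
    simp only at h4
    rw [h0] at h4
    have hz : ∀ w : Fin 3 → ZMod 2, encV w = 0 → w = 0 := by decide +kernel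
    have h5 := congrArg (g⁻¹).val.mulVec (hz _ h4.symm)
    rw [Matrix.mulVec_mulVec, ← Units.val_mul, inv_mul_cancel, Units.val_one, Matrix.one_mulVec,
      Matrix.mulVec_zero] at h5
    exact vec_facts.2.2.1 _ h5
  · have hf' : (fun i : Fin 7 => (⟨(glImg (encV x) (encV y) (encV z) (i.val + 1) + 6) % 7,
        Nat.mod_lt _ (by norm_num)⟩ : Fin 7)) = ⇑(glPerm g) :=
      funext fun i => Fin.ext (by
        show _ = (encV (g.val.mulVec (vecI i)) + 6) % 7
        rw [← hf])
    rw [hf'] at hc
    obtain ⟨k, -, hk⟩ := code_sound (h := 1) hc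
    exact ⟨k, hk⟩

theorem sym_check : ∀ σ : Equiv.Perm (Fin 3), trioSym.any (fun p => codeB p id σ) = true := by
  decide +kernel

theorem exists_sym (σ : Equiv.Perm (Fin 3)) : ∃ x, trioAct x = (1, σ) := by
  obtain ⟨p, -, hp⟩ := List.any_eq_true.1 (sym_check σ)
  obtain ⟨k, -, hk⟩ := code_sound (f := 1) (h := σ) hp
  exact ⟨k, hk⟩

/-- The target of the quotient. -/
def trioTarget : GL (Fin 3) (ZMod 2) × Equiv.Perm (Fin 3) →* Equiv.Perm (Fin 7) × Equiv.Perm (Fin 3) :=
  glPerm.prodMap (MonoidHom.id _)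

theorem trioTarget_injective : Function.Injective trioTarget :=
  Prod.map_injective.2 ⟨glPerm_injective, Function.injective_id⟩

theorem target_le_range : trioTarget.range ≤ trioAct.range := by
  rintro _ ⟨⟨g, σ⟩, rfl⟩
  obtain ⟨x, hx⟩ := exists_gl g
  obtain ⟨y, hy⟩ := exists_sym σ
  refine ⟨x * y, ?_⟩
  rw [map_mul, hx, hy]
  exact Prod.ext (mul_one _) (one_mul _)

theorem ker_check :
    (trioKer.all fun p => codeB p id id &&
      (List.range 24).all fun i => Nat.beq (Comp.PermCode.get p (Comp.PermCode.get p i)) i) = true ∧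
    distinctCodes [0, 1] trioKer = true ∧ trioKer.length = 64 := by
  decide +kernel

theorem card_trioTarget : Nat.card (GL (Fin 3) (ZMod 2) × Equiv.Perm (Fin 3)) = 1008 := by
  rw [Nat.card_prod, Nat.card_perm, Matrix.card_GL_field, Fin.prod_univ_three]
  simp [ZMod.card, Nat.factorial]

theorem card_stab_trio {T : Finset (Finset GolayPt)} (hT : T ∈ trios) :
    Nat.card (stabilizer M24 T) = 64512 := by
  have h := card_stab_mul (fun g y hy => smul_mem_trios g hy) hT fun y hy => by
    obtain ⟨k, hk⟩ := trio_transitive hT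
    obtain ⟨k', hk'⟩ := trio_transitive hy
    exact ⟨k' * k⁻¹, by rw [← hk, mul_smul, inv_smul_smul, hk']⟩
  rw [GolayDesign.ncard_trios] at h
  omega

theorem trio_base_facts :
    trioAct.range = trioTarget.range ∧ Nat.card trioAct.ker = 64 ∧ ∀ x ∈ trioAct.ker, x * x = 1 := by
  classical
  have hH := card_stab_trio trioBase_mem
  have hidx := Subgroup.card_mul_index trioAct.ker
  rw [Subgroup.index_ker, hH] at hidx
  have hT : Nat.card trioTarget.range = 1008 := by
    rw [← card_trioTarget]
    exact (Nat.card_congr (MonoidHom.ofInjective trioTarget_injective).toEquiv).symm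
  have hR : 1008 ≤ Nat.card trioAct.range := hT ▸ Subgroup.card_le_of_le target_le_range
  have hok : ∀ p ∈ trioKer, Comp.PermCode.Ok 24 p ∧
      ∃ g ∈ trioAct.ker, ((g : M24) : Equiv.Perm GolayPt) = perm p := by
    intro p hp
    have := List.all_eq_true.1 ker_check.1 p hp
    rw [Bool.and_eq_true] at this
    obtain ⟨g, hg, hg'⟩ := code_sound (f := 1) (h := 1) this.1
    refine ⟨okM24_ok ?_, g, hg', hg⟩
    simp only [codeB, Bool.and_eq_true] at this
    exact this.1.1.1
  have hn : (trioKer.map perm).Nodup :=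
    nodup_perm (fun b hb => by simp at hb; omega) (fun p hp => (hok p hp).1) ker_check.2.1
  let K : Set (Equiv.Perm GolayPt) := (fun g : trioAct.ker => ((g.1.1 : M24) : Equiv.Perm GolayPt)) '' Set.univ
  have hinj : Function.Injective fun g : trioAct.ker => ((g.1.1 : M24) : Equiv.Perm GolayPt) :=
    fun g h e => Subtype.ext (Subtype.ext (Subtype.ext e))
  have hKcard : K.ncard = Nat.card trioAct.ker := by
    rw [Set.ncard_image_of_injective _ hinj, Set.ncard_univ]
  have hsub : (↑((trioKer.map perm).toFinset) : Set (Equiv.Perm GolayPt)) ⊆ K := by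
    intro x hx
    simp only [List.coe_toFinset, List.mem_map, Set.mem_ofPred_eq] at hx
    obtain ⟨p, hp, rfl⟩ := hx
    obtain ⟨-, g, hg, he⟩ := hok p hp
    exact ⟨⟨g, hg⟩, trivial, he⟩
  have hlen : (↑((trioKer.map perm).toFinset) : Set (Equiv.Perm GolayPt)).ncard = 64 := by
    rw [Set.ncard_coe_finset, List.toFinset_card_of_nodup hn, List.length_map, ker_check.2.2]
  have hK : 64 ≤ Nat.card trioAct.ker := hKcard ▸ hlen ▸ Set.ncard_le_ncard hsub (Set.toFinite _)
  have hR' : Nat.card trioAct.range = 1008 := by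
    refine le_antisymm ?_ hR
    by_contra hh
    have := Nat.mul_le_mul hK (Nat.succ_le_of_lt (not_le.1 hh))
    omega
  rw [hR'] at hidx
  have hK' : Nat.card trioAct.ker = 64 :=
    Nat.eq_of_mul_eq_mul_right (by norm_num : 0 < 1008) (hidx.trans (by norm_num))
  refine ⟨(Subgroup.eq_of_le_of_card_ge target_le_range (hR'.le.trans hT.ge)).symm, hK', fun x hx => ?_⟩
  have hKeq : (↑((trioKer.map perm).toFinset) : Set (Equiv.Perm GolayPt)) = K :=
    Set.eq_of_subset_of_ncard_le hsub (by rw [hKcard, hK', hlen]) (Set.toFinite _)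
  have hxK : ((x.1 : M24) : Equiv.Perm GolayPt) ∈ K := ⟨⟨x, hx⟩, trivial, rfl⟩
  rw [← hKeq] at hxK
  simp only [List.coe_toFinset, List.mem_map, Set.mem_ofPred_eq] at hxK
  obtain ⟨p, hp, he⟩ := hxK
  have hsq := List.all_eq_true.1 ker_check.1 p hp
  simp only [Bool.and_eq_true, List.all_eq_true, List.mem_range, Nat.beq_eq] at hsq
  refine Subtype.ext (Subtype.ext (Equiv.ext fun a => Golay.bit_injective ?_))
  show Golay.bit (((x.1 : M24) : Equiv.Perm GolayPt) (((x.1 : M24) : Equiv.Perm GolayPt) a)) = Golay.bit a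
  rw [← he, bit_perm (hok p hp).1, bit_perm (hok p hp).1]
  exact hsq.2 _ (Golay.bit_lt a)

theorem trio_structure {T : Finset (Finset GolayPt)} (hT : T ∈ trios) :
    (∀ e : Equiv.Perm ↥T, ∃ g ∈ stabilizer M24 T, ∀ o : ↥T,
      (g : Equiv.Perm GolayPt) • (o : Finset GolayPt) = ((e o : ↥T) : Finset GolayPt)) ∧
    ∃ (N : Subgroup ↥(stabilizer M24 T)) (_ : N.Normal), Nat.card N = 64 ∧ (∀ x ∈ N, x * x = 1) ∧
      Nonempty (↥(stabilizer M24 T) ⧸ N ≃* GL (Fin 3) (ZMod 2) × Equiv.Perm (Fin 3)) := by
  obtain ⟨k, rfl⟩ := trio_transitive hT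
  obtain ⟨ε⟩ : Nonempty (stabilizer M24 (k • T₀) ≃* stabilizer M24 T₀) := ⟨
    { toFun := fun g => ⟨k⁻¹ * g.1 * k, by
        rw [mem_stabilizer_iff, mul_smul, mul_smul, mem_stabilizer_iff.1 g.2, inv_smul_smul]⟩
      invFun := fun g => ⟨k * g.1 * k⁻¹, conj_mem_stab g.2⟩
      left_inv := fun g => Subtype.ext (by group)
      right_inv := fun g => Subtype.ext (by group)
      map_mul' := fun g h => Subtype.ext (by
        show k⁻¹ * (g.1 * h.1) * k = k⁻¹ * g.1 * k * (k⁻¹ * h.1 * k)
        group) }⟩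
  obtain ⟨hrange, hker, hsq⟩ := trio_base_facts
  set φ := trioAct.comp ε.toMonoidHom with hφ
  have hφr : φ.range = trioTarget.range := by
    rw [← hrange]
    refine le_antisymm ?_ ?_
    · rintro _ ⟨x, rfl⟩; exact ⟨ε x, rfl⟩
    · rintro _ ⟨x, rfl⟩; exact ⟨ε.symm x, by simp [φ]⟩
  refine ⟨fun e => ?_, φ.ker, MonoidHom.normal_ker φ, ?_, fun x hx => ?_, ⟨?_⟩⟩
  · let c : {o // o ∈ T₀} ≃ {o // o ∈ k • T₀} :=
      { toFun := fun o => ⟨(k : Equiv.Perm GolayPt) • o.1, Finset.smul_mem_smul_finset o.2⟩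
        invFun := fun o => ⟨(k : Equiv.Perm GolayPt)⁻¹ • o.1, Finset.inv_smul_mem_iff.2 o.2⟩
        left_inv := fun o => Subtype.ext (inv_smul_smul _ _)
        right_inv := fun o => Subtype.ext (smul_inv_smul _ _) }
    obtain ⟨x, hx⟩ := exists_sym ((octNum.trans c).symm.permCongr e)
    refine ⟨k * x.1 * k⁻¹, conj_mem_stab x.2, fun o => ?_⟩
    obtain ⟨j, rfl⟩ := (octNum.trans c).surjective o
    have h1 := trioAct_snd x j
    rw [hx] at h1
    show ((k : Equiv.Perm GolayPt) * ((x.1 : M24) : Equiv.Perm GolayPt) * (k : Equiv.Perm GolayPt)⁻¹) •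
      ((k : Equiv.Perm GolayPt) • Golay.toSet (octMask j)) = _
    rw [mul_smul, mul_smul, inv_smul_smul, ← h1]
    have h2 : ((octNum.trans c) (((octNum.trans c).symm.permCongr e) j)) = e ((octNum.trans c) j) := by
      simp [Equiv.permCongr_apply]
    exact congrArg Subtype.val h2
  · rw [← hker]
    exact Nat.card_congr (ε.toEquiv.subtypeEquiv fun x => by
      rw [MonoidHom.mem_ker, MonoidHom.mem_ker, hφ, MonoidHom.comp_apply]; exact Iff.rfl)
  · have hx' : ε x ∈ trioAct.ker := by
      rw [MonoidHom.mem_ker, hφ, MonoidHom.comp_apply] at hx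
      exact MonoidHom.mem_ker.2 hx
    exact ε.injective (by rw [map_mul, map_one]; exact hsq (ε x) hx')
  · exact ((QuotientGroup.quotientKerEquivRange φ).trans (MulEquiv.subgroupCongr hφr)).trans
      (MonoidHom.ofInjective trioTarget_injective).symm

end CfsgLib.M24Stab
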